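import Cfsg.Agent.J3.Nineteen
import Cfsg.Agent.J3.Order
import Cfsg.Agent.H732.SteinbergSL2
import Cfsg.Agent.J3.Simple
import Cfsg.Prelude.Def_GeometricClasses
import Cfsg.Agent.Prune
set_option linter.all false
prune_inst 0x7f00000000000000000000000000000000000000000000000000000000000000000000000000000000000000000000000000000000000000000000000000000000000000000000000000000000000000003fffffffffffffffffffffffffffbeffbdffffffff
open scoped Cfsg.Agent.FastGrp

-- part: H571/JSub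
section
/-!
# A homomorphism `SL₂(19) → 3·J₃` (helper571)

`g = (C_1 D_{(1,0)} D_{(1,1)})^7` and `t = n C_1 n⁻¹`, `n = D_{(0,2)} B_{(1,2)}`, satisfy the rank one
Steinberg relations of `SL₂(19)` with `x(s) = g^s` and `y(s) = t x(-s) t⁻¹`; the trace of `g` is `ω`.
-/

set_option autoImplicit false

namespace Cfsg.Agent.H571.JSub

open Cfsg.Spor Cfsg.Agent.J3.Core Cfsg.Agent.J3.Tab Cfsg.Agent.J3.Elts Cfsg.Agent.J3.Order
open Cfsg.Agent.J3.Mono Cfsg.Agent.H731 Cfsg.Agent.H732 Matrix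

def Tg : List ℕ := [210835, 72161, 59233, 31154, 33025, 49666, 87952, 174560, 116340, 150424,
  175201, 259250, 195124, 220952, 70792, 141516, 90482, 176787]

def Tt : List ℕ := [65541, 131082, 1029, 2058, 16, 32, 4672, 9088, 45248, 53312, 66564, 133128,
  49728, 17280, 25344, 45312, 66561, 133122]

theorem chk_g : beqL (powT (compT tC (compT (tD (1, 0)) (tD (1, 1)))) 7) Tg = true := by
  decide +kernel

theorem chk_t : beqL (compT (tD (0, 2)) (compT (tB (1, 2)) (compT tC (compT (tB (2, 2))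
    (tD (0, 1)))))) Tt = true := by
  decide +kernel

theorem chk_g19 : beqL (cols (powT Tg 19)) (cols (tS 0)) = true := by decide +kernel

theorem chk_tt : beqL (cols (compT Tt Tt)) (cols (tS 0)) = true := by decide +kernel

/-- `w = x(i) y(-j) x(i)` for `i j = 1` -/
def wT (i j : ℕ) : List ℕ :=
  compT (powT Tg i) (compT Tt (compT (powT Tg j) (compT Tt (powT Tg i))))

def relT (i j m : ℕ) : Bool :=
  beqL (cols (compT (wT i j) Tg)) (cols (compT Tt (compT (powT Tg m) (compT Tt (wT i j)))))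

theorem chkRel : ∀ i < 19, ∀ j < 19, i * j % 19 = 1 → relT i j (j * j % 19) = true := by
  decide +kernel

section
variable {F : Type*} [Field F] {ω : F}

/-- sum of the diagonal codes -/
def trT (T : List ℕ) : ℕ :=
  ((((cols T).getD 0 0 >>> 0) ^^^ ((cols T).getD 1 0 >>> 2)) ^^^ ((cols T).getD 2 0 >>> 4)) ^^^
  (((((cols T).getD 3 0 >>> 6) ^^^ ((cols T).getD 4 0 >>> 8)) ^^^ ((cols T).getD 5 0 >>> 10)) ^^^
  ((((cols T).getD 6 0 >>> 12) ^^^ ((cols T).getD 7 0 >>> 14)) ^^^ ((cols T).getD 8 0 >>> 16)))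

theorem trace_eq (H : Good ω) {T : List ℕ} {M : Matrix F9 F9 F} (hM : Rep ω T M) :
    M.trace = val ω (trT T) := by
  have key : ∀ z : F9, M z z = val ω ((cols T).getD (idx z) 0 >>> (2 * idx z)) := fun z =>
    congrFun (hM.col z) z
  have h1 : M.trace = ∑ z : ZMod 3 × ZMod 3, M z z := rfl
  have h2 : ∀ f : ZMod 3 → F, ∑ i : ZMod 3, f i = f 0 + f 1 + f 2 := fun f =>
    Fin.sum_univ_three (f : Fin 3 → F)
  rw [h1, Fintype.sum_prod_type, h2, h2, h2, h2, key, key, key, key, key, key, key, key, key]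
  unfold trT
  rw [val_xor H, val_xor H, val_xor H, val_xor H, val_xor H, val_xor H, val_xor H, val_xor H,
    add_assoc (_ + _ + _)]
  rfl

theorem chk_tr : trT Tg % 4 = 2 := by decide +kernel

/-- the elements `g` and `t` -/
theorem exists_gt [Fintype F] (hF : Fintype.card F = 4) (H : Good ω) :
    ∃ g t : threeJ3 F ω, RepG ω Tg g ∧ RepG ω Tt t := by
  obtain ⟨G⟩ := exists_gens hF H
  have h12 : ((1, 2) : F9) ≠ 0 := by decide
  have h22 : ((2, 2) : F9) ≠ 0 := by decide
  refine ⟨(G.c * (G.d (1, 0) * G.d (1, 1))) ^ 7,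
    G.d (0, 2) * (G.b (1, 2) * (G.c * (G.b (2, 2) * G.d (0, 1)))), ?_, ?_⟩
  · have h := ((rC G H).mul ((rD G H (1, 0)).mul (rD G H (1, 1)))).pow H 7
    rwa [beqL_eq chk_g] at h
  · have h := (rD G H (0, 2)).mul ((rB G H (1, 2) h12).mul ((rC G H).mul
      ((rB G H (2, 2) h22).mul (rD G H (0, 1)))))
    rwa [beqL_eq chk_t] at h

theorem g_pow (H : Good ω) {g : threeJ3 F ω} (hg : RepG ω Tg g) : g ^ 19 = 1 :=
  (hg.pow H 19).ext (repG_one H) (beqL_eq chk_g19)

theorem t_sq (H : Good ω) {t : threeJ3 F ω} (ht : RepG ω Tt t) : t * t = 1 :=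
  (ht.mul ht).ext (repG_one H) (beqL_eq chk_tt)

theorem rel (H : Good ω) {g t : threeJ3 F ω} (hg : RepG ω Tg g) (ht : RepG ω Tt t) {i j : ℕ}
    (hi : i < 19) (hj : j < 19) (hij : i * j % 19 = 1) :
    (g ^ i * (t * (g ^ j * (t * g ^ i)))) * g =
      t * (g ^ (j * j % 19) * (t * (g ^ i * (t * (g ^ j * (t * g ^ i)))))) := by
  have hw : RepG ω (wT i j) (g ^ i * (t * (g ^ j * (t * g ^ i)))) :=
    (hg.pow H i).mul (ht.mul ((hg.pow H j).mul (ht.mul (hg.pow H i))))
  exact (hw.mul hg).ext (ht.mul ((hg.pow H _).mul (ht.mul hw))) (beqL_eq (chkRel i hi j hj hij))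

instance fact19 : Fact (Nat.Prime 19) := ⟨by norm_num⟩

/-- `x(s) = g^s` -/
def xx {G : Type*} [Group G] (g : G) (s : ZMod 19) : G := g ^ s.val

/-- `y(s) = t g^{-s} t⁻¹` -/
def yy {G : Type*} [Group G] (g t : G) (s : ZMod 19) : G := t * xx g (-s) * t⁻¹

section
variable {G : Type*} [Group G] {g t : G}

theorem pow_mod (hg : g ^ 19 = 1) (n : ℕ) : g ^ (n % 19) = g ^ n := by
  conv_rhs => rw [← Nat.mod_add_div n 19, pow_add, pow_mul, hg, one_pow, mul_one]

theorem xx_add (hg : g ^ 19 = 1) (s r : ZMod 19) : xx g (s + r) = xx g s * xx g r := by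
  unfold xx
  rw [← pow_add, ZMod.val_add, pow_mod hg]

theorem xx_mul (hg : g ^ 19 = 1) (s r : ZMod 19) : xx g (s * r) = xx g s ^ r.val := by
  unfold xx
  rw [← pow_mul, ZMod.val_mul, pow_mod hg]

theorem stRel (hg : g ^ 19 = 1) (ht : t * t = 1)
    (hr : ∀ i j : ℕ, i < 19 → j < 19 → i * j % 19 = 1 →
      (g ^ i * (t * (g ^ j * (t * g ^ i)))) * g =
        t * (g ^ (j * j % 19) * (t * (g ^ i * (t * (g ^ j * (t * g ^ i))))))) :
    StRel (xx g) (yy g t) := by
  have hti : t⁻¹ = t := inv_eq_of_mul_eq_one_right ht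
  refine ⟨xx_add hg, ?_, ?_⟩
  · intro s r
    unfold yy
    rw [neg_add, xx_add hg]
    simp only [mul_assoc, inv_mul_cancel_left]
  · intro τ hτ s
    have h1 : τ.val * (τ⁻¹).val % 19 = 1 := by
      have := ZMod.val_mul τ τ⁻¹
      rw [mul_inv_cancel₀ hτ] at this
      exact this.symm
    have h2 := hr _ _ (ZMod.val_lt τ) (ZMod.val_lt τ⁻¹) h1
    have hw : ww (xx g) (yy g t) τ = g ^ τ.val * (t * (g ^ (τ⁻¹).val * (t * g ^ τ.val))) := by
      unfold ww yy xx
      rw [neg_neg, hti]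
      simp only [mul_assoc]
    rw [← hw] at h2
    have h3 : (ww (xx g) (yy g t) τ) * g * (ww (xx g) (yy g t) τ)⁻¹ = t * xx g (τ⁻¹ ^ 2) * t⁻¹ := by
      rw [mul_inv_eq_iff_eq_mul]
      have e : xx g (τ⁻¹ ^ 2) = g ^ ((τ⁻¹).val * (τ⁻¹).val % 19) := by
        unfold xx
        rw [pow_two, ZMod.val_mul]
      rw [e, hti]
      have h4 : t * g ^ ((τ⁻¹).val * (τ⁻¹).val % 19) * t * ww (xx g) (yy g t) τ =
          t * (g ^ ((τ⁻¹).val * (τ⁻¹).val % 19) * (t * ww (xx g) (yy g t) τ)) := by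
        simp only [mul_assoc]
      rw [h4, h2, hw]
    have h4 : (ww (xx g) (yy g t) τ) * xx g s * (ww (xx g) (yy g t) τ)⁻¹ =
        ((ww (xx g) (yy g t) τ) * g * (ww (xx g) (yy g t) τ)⁻¹) ^ s.val := by
      rw [conj_pow]; rfl
    rw [h4, h3, conj_pow, ← xx_mul hg]
    unfold yy
    rw [neg_neg]

end

/-- **The homomorphism `SL₂(19) → 3·J₃`.** -/
theorem exists_hom_J3 [Fintype F] (hF : Fintype.card F = 4) (H : Good ω) :
    ∃ φ : Matrix.SpecialLinearGroup (Fin 2) (ZMod 19) →* threeJ3 F ω,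
      (mat ω (φ (up (ZMod 19) 1))).trace = ω := by
  obtain ⟨g, t, hg, ht⟩ := exists_gt hF H
  have h := stRel (g_pow H hg) (t_sq H ht) (fun i j hi hj hij => rel H hg ht hi hj hij)
  obtain ⟨φ, hφ, -, -, -⟩ := exists_hom h (hmul_of_finite h)
  refine ⟨φ, ?_⟩
  rw [hφ]
  have e : xx g (1 : ZMod 19) = g := by
    unfold xx
    rw [ZMod.val_one, pow_one]
  rw [e, trace_eq H hg, ← val_mod, chk_tr, val_two]

end

end Cfsg.Agent.H571.JSub
end

-- part: H571/JUnit
section
/-!
# `3·J₃` is contained in the special unitary group `SU₉(2)` (helper571)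
-/

set_option autoImplicit false

namespace Cfsg.Agent.H571.JUnit

open Cfsg Cfsg.Spor Cfsg.Agent.J3.Core Cfsg.Agent.J3.Tab Cfsg.Agent.J3.Elts Cfsg.Agent.J3.Order
open Cfsg.Agent.J3.Mono Cfsg.Agent.J3.Nineteen Cfsg.Agent.J3.Simple Matrix

/-! ### codes of elements of `F_4` -/

/-- product of codes -/
def mulc (a b : ℕ) : ℕ := if a = 0 ∨ b = 0 then 0 else (a + b - 2) % 3 + 1

/-- square of a code -/
def frobc (a : ℕ) : ℕ := mulc a a

/-- code of the entry `(x, z)` -/
def cc (T : List ℕ) (z x : ℕ) : ℕ := ((cols T).getD z 0 >>> (2 * x)) % 4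

def xor9 (f : ℕ → ℕ) : ℕ :=
  ((f 0 ^^^ f 1) ^^^ f 2) ^^^ (((f 3 ^^^ f 4) ^^^ f 5) ^^^ ((f 6 ^^^ f 7) ^^^ f 8))

/-- the test for unitary matrices -/
def uniT (T : List ℕ) : Bool :=
  (List.range 9).all fun z => (List.range 9).all fun w =>
    Nat.beq (xor9 (fun x => mulc (cc T z x) (frobc (cc T w x)))) (if z = w then 1 else 0)

theorem uniT_spec {T : List ℕ} (h : uniT T = true) {z w : ℕ} (hz : z < 9) (hw : w < 9) :
    xor9 (fun x => mulc (cc T z x) (frobc (cc T w x))) = if z = w then 1 else 0 := by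
  unfold uniT at h
  rw [List.all_eq_true] at h
  have h1 := h z (List.mem_range.2 hz)
  rw [List.all_eq_true] at h1
  exact Nat.eq_of_beq_eq_true (h1 w (List.mem_range.2 hw))

theorem uniA : ∀ Z : F9, uniT (tA Z) = true := by decide +kernel
theorem uniD : ∀ Z : F9, uniT (tD Z) = true := by decide +kernel
theorem uniB : ∀ Z : F9, Z ≠ 0 → uniT (tB Z) = true := by decide +kernel
theorem uniE : uniT tE = true := by decide +kernel
theorem uniC : uniT tC = true := by decide +kernel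

section
variable {F : Type*} [Field F] {ω : F}

theorem val_pow (H : Good ω) : ∀ n : ℕ, val ω (n % 3 + 1) = ω ^ n := by
  intro n
  have h3 := H.cube
  have h1 : ω ^ n = ω ^ (n % 3) := by
    conv_lhs => rw [← Nat.mod_add_div n 3, pow_add, pow_mul, h3, one_pow, mul_one]
  rw [h1]
  exact (omega_pow_eq H (n % 3) (Nat.mod_lt _ (by norm_num))).symm

theorem val_succ (H : Good ω) {a : ℕ} (ha : a < 4) (h0 : a ≠ 0) : val ω a = ω ^ (a - 1) := by
  have h := val_pow H (a - 1)
  rw [← h]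
  congr 1
  omega

theorem val_mulc (H : Good ω) {a b : ℕ} (ha : a < 4) (hb : b < 4) :
    val ω (mulc a b) = val ω a * val ω b := by
  unfold mulc
  by_cases h0 : a = 0 ∨ b = 0
  · rw [if_pos h0, val_zero]
    rcases h0 with rfl | rfl
    · rw [val_zero, zero_mul]
    · rw [val_zero, mul_zero]
  · rw [if_neg h0, val_pow H, val_succ H ha (by omega), val_succ H hb (by omega), ← pow_add]
    congr 1
    omega

theorem mulc_lt (a b : ℕ) : mulc a b < 4 := by
  unfold mulc
  split
  · norm_num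
  · omega

theorem val_frobc (H : Good ω) {a : ℕ} (ha : a < 4) : val ω (frobc a) = val ω a ^ 2 := by
  unfold frobc
  rw [val_mulc H ha ha, sq]

theorem sum_val (H : Good ω) (f : ℕ → ℕ) :
    ∑ z : F9, val ω (f (idx z)) = val ω (xor9 f) := by
  have h1 : (∑ z : F9, val ω (f (idx z))) = ∑ z : ZMod 3 × ZMod 3, val ω (f (idx z)) := rfl
  have h2 : ∀ f : ZMod 3 → F, ∑ i : ZMod 3, f i = f 0 + f 1 + f 2 := fun f =>
    Fin.sum_univ_three (f : Fin 3 → F)
  rw [h1, Fintype.sum_prod_type, h2, h2, h2, h2]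
  unfold xor9
  rw [val_xor H, val_xor H, val_xor H, val_xor H, val_xor H, val_xor H, val_xor H, val_xor H,
    add_assoc (_ + _ + _)]
  rfl

theorem entry {T : List ℕ} {M : Matrix F9 F9 F} (hM : Rep ω T M) (x z : F9) :
    M x z = val ω (cc T (idx z) (idx x)) := by
  have h := congrFun (hM.col z) x
  rw [h, dec_apply, ← val_mod]
  rfl

theorem cc_lt (T : List ℕ) (z x : ℕ) : cc T z x < 4 := Nat.mod_lt _ (by norm_num)

theorem idx_inj : ∀ z w : F9, idx z = idx w ↔ z = w := by decide +kernel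

theorem frobc_lt (a : ℕ) : frobc a < 4 := mulc_lt a a

/-- The test is correct. -/
theorem uni_of_rep (H : Good ω) {T : List ℕ} {M : Matrix F9 F9 F} (hM : Rep ω T M)
    (hT : uniT T = true) : Mᵀ * M.map (fun x => x ^ 2) = 1 := by
  ext z w
  have h1 : ∀ x : F9, Mᵀ z x * M.map (fun x => x ^ 2) x w =
      val ω ((fun x => mulc (cc T (idx z) x) (frobc (cc T (idx w) x))) (idx x)) := by
    intro x
    rw [Matrix.transpose_apply, Matrix.map_apply, entry hM, entry hM]
    change _ = val ω (mulc (cc T (idx z) (idx x)) (frobc (cc T (idx w) (idx x))))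
    rw [val_mulc H (cc_lt _ _ _) (frobc_lt _), val_frobc H (cc_lt _ _ _)]
  have h2 : (Mᵀ * M.map (fun x => x ^ 2)) z w =
      val ω (xor9 (fun x => mulc (cc T (idx z) x) (frobc (cc T (idx w) x)))) := by
    rw [← sum_val H, Matrix.mul_apply]
    exact Finset.sum_congr rfl fun x _ => h1 x
  rw [h2, uniT_spec hT (idx_lt z) (idx_lt w)]
  by_cases h : z = w
  · rw [if_pos ((idx_inj z w).2 h), h, Matrix.one_apply_eq, val_one]
  · rw [if_neg (fun h' => h ((idx_inj z w).1 h')), Matrix.one_apply_ne h, val_zero]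

end

/-! ### the unitary group -/

section UU

variable {ι : Type} [Fintype ι] [DecidableEq ι] {F : Type*} [Field F]

/-- The unitary group of the standard form, by matrices. -/
def UU (ι : Type) [Fintype ι] [DecidableEq ι] (σ : F ≃+* F) : Subgroup (GL ι F) where
  carrier := {g | (g : Matrix ι ι F)ᵀ * (g : Matrix ι ι F).map σ = 1}
  mul_mem' := by
    intro a b ha hb
    change ((a * b : GL ι F) : Matrix ι ι F)ᵀ * ((a * b : GL ι F) : Matrix ι ι F).map σ = 1
    have ha' : (a : Matrix ι ι F)ᵀ * (a : Matrix ι ι F).map σ = 1 := ha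
    have hb' : (b : Matrix ι ι F)ᵀ * (b : Matrix ι ι F).map σ = 1 := hb
    rw [Units.val_mul, Matrix.transpose_mul, Matrix.map_mul]
    calc (b : Matrix ι ι F)ᵀ * (a : Matrix ι ι F)ᵀ * ((a : Matrix ι ι F).map σ * (b : Matrix ι ι F).map σ)
        = (b : Matrix ι ι F)ᵀ * ((a : Matrix ι ι F)ᵀ * (a : Matrix ι ι F).map σ) * (b : Matrix ι ι F).map σ := by
          simp only [Matrix.mul_assoc]
      _ = 1 := by rw [ha', Matrix.mul_one, hb']
  one_mem' := by
    change ((1 : GL ι F) : Matrix ι ι F)ᵀ * ((1 : GL ι F) : Matrix ι ι F).map σ = 1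
    rw [Units.val_one, Matrix.transpose_one, Matrix.map_one σ (map_zero σ) (map_one σ), Matrix.one_mul]
  inv_mem' := by
    intro a ha
    change ((a⁻¹ : GL ι F) : Matrix ι ι F)ᵀ * ((a⁻¹ : GL ι F) : Matrix ι ι F).map σ = 1
    have ha' : (a : Matrix ι ι F)ᵀ * (a : Matrix ι ι F).map σ = 1 := ha
    have h1 : (a : Matrix ι ι F).map σ * (a : Matrix ι ι F)ᵀ = 1 := mul_eq_one_comm.1 ha'
    have h2 : (a : Matrix ι ι F).map σ * ((a⁻¹ : GL ι F) : Matrix ι ι F).map σ = 1 := by
      rw [← Matrix.map_mul, ← Units.val_mul, mul_inv_cancel, Units.val_one,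
        Matrix.map_one σ (map_zero σ) (map_one σ)]
    have h3 : (a : Matrix ι ι F)ᵀ * ((a⁻¹ : GL ι F) : Matrix ι ι F)ᵀ = 1 := by
      rw [← Matrix.transpose_mul, ← Units.val_mul, inv_mul_cancel, Units.val_one, Matrix.transpose_one]
    have h4 : ((a⁻¹ : GL ι F) : Matrix ι ι F)ᵀ = (a : Matrix ι ι F).map σ := by
      have := congrArg (fun w => (a : Matrix ι ι F).map σ * w) h3
      simp only [← Matrix.mul_assoc, h1, Matrix.one_mul, Matrix.mul_one] at this
      exact this
    rw [h4, h2]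

theorem mem_UU {σ : F ≃+* F} {g : GL ι F} :
    g ∈ UU ι σ ↔ (g : Matrix ι ι F)ᵀ * (g : Matrix ι ι F).map σ = 1 := Iff.rfl

/-- Invariance under reindexing. -/
theorem reindex_mem {κ : Type} [Fintype κ] [DecidableEq κ] (e : ι ≃ κ) {σ : F ≃+* F} {g : GL ι F} :
    Cfsg.Geo.glReindex e g ∈ UU κ σ ↔ g ∈ UU ι σ := by
  rw [mem_UU, mem_UU]
  change ((g : Matrix ι ι F).submatrix e.symm e.symm)ᵀ *
    ((g : Matrix ι ι F).submatrix e.symm e.symm).map σ = 1 ↔ _
  rw [Matrix.transpose_submatrix, ← Matrix.submatrix_map, Matrix.submatrix_mul_equiv]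
  constructor
  · intro h
    have h1 := congrArg (fun w => w.submatrix e e) h
    simpa using h1
  · intro h
    rw [h]
    simp

end UU

section J
variable {F : Type*} [Field F] {ω : F}

/-- `3·J₃ ≤ GU₉(2)` -/
theorem threeJ3_le [Fintype F] (hF : Fintype.card F = 4) (H : Good ω) {σ : F ≃+* F}
    (hσ : ∀ x, σ x = x ^ 2) : threeJ3 F ω ≤ UU F9 σ := by
  obtain ⟨G⟩ := exists_gens hF H
  have hσ' : (σ : F → F) = fun x => x ^ 2 := funext hσ
  have key : ∀ {T : List ℕ} {g : threeJ3 F ω}, RepG ω T g → uniT T = true →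
      g ∈ (UU F9 σ).subgroupOf (threeJ3 F ω) := by
    intro T g hg hT
    rw [Subgroup.mem_subgroupOf, mem_UU, hσ']
    exact uni_of_rep H hg hT
  have h := G.eq_top H (N := (UU F9 σ).subgroupOf (threeJ3 F ω)) ?_ (fun Z => key (rA G H Z) (uniA Z))
    (fun Z => key (rD G H Z) (uniD Z)) (fun Z hZ => key (rB G H Z hZ) (uniB Z hZ))
    (key (rE G H) uniE) (key (rC G H) uniC)
  · exact Subgroup.subgroupOf_eq_top.1 h
  · intro x n hx
    rw [Subgroup.mem_subgroupOf, mem_UU, hσ']
    change (mat ω x)ᵀ * (mat ω x).map (fun x => x ^ 2) = 1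
    rw [hx]
    ext i j
    rw [Matrix.transpose_smul, Matrix.transpose_one, Matrix.smul_mul, Matrix.one_mul,
      Matrix.smul_apply, Matrix.map_apply, Matrix.smul_apply]
    by_cases hij : i = j
    · subst hij
      rw [Matrix.one_apply_eq, smul_eq_mul, smul_eq_mul, mul_one, ← pow_mul, ← pow_add]
      have : n + n * 2 = 3 * n := by ring
      rw [this, pow_mul, H.cube, one_pow]
    · rw [Matrix.one_apply_ne hij]
      simp

/-- `3·J₃ ≤ SL₉(4)` -/
theorem det_eq_one [Fintype F] (hF : Fintype.card F = 4) (H : Good ω) {g : GL F9 F}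
    (hg : g ∈ threeJ3 F ω) : Matrix.GeneralLinearGroup.det g = 1 := by
  obtain ⟨G⟩ := exists_gens hF H
  obtain ⟨s, hs⟩ := exists_scalar H G
  have h := hom_trivial H G hs (Matrix.GeneralLinearGroup.det.comp (threeJ3 F ω).subtype) (by
    intro y hy
    have h1 : (Matrix.GeneralLinearGroup.det.comp (threeJ3 F ω).subtype) y ^ 19 = 1 := by
      rw [← map_pow, ← hy, pow_orderOf_eq_one, map_one]
    have h2 : ∀ a : Fˣ, a ^ 3 = 1 := by
      intro a
      have h3 : (a : F) ^ (Fintype.card F - 1) = 1 := FiniteField.pow_card_sub_one_eq_one _ a.ne_zero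
      rw [hF] at h3
      exact Units.ext (by rw [Units.val_pow_eq_pow_val, Units.val_one]; exact h3)
    have h4 : ∀ a : Fˣ, a ^ 19 = 1 → a = 1 := by
      intro a ha
      have h5 : a ^ 19 = (a ^ 3) ^ 6 * a := by rw [← pow_mul, ← pow_succ]
      rwa [h2, one_pow, one_mul, ha, eq_comm] at h5
    exact h4 _ h1)
  have h1 : (⟨g, hg⟩ : threeJ3 F ω) ∈ (Matrix.GeneralLinearGroup.det.comp (threeJ3 F ω).subtype).ker := by
    rw [h]; trivial
  exact h1

/-- the scalars are in `3·J₃` -/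
theorem scalar_mem [Fintype F] (hF : Fintype.card F = 4) (H : Good ω) {g : GL F9 F} {c : F}
    (hg : (g : Matrix F9 F9 F) = c • 1) : g ∈ threeJ3 F ω := by
  obtain ⟨G⟩ := exists_gens hF H
  obtain ⟨s, hs⟩ := exists_scalar H G
  have hc : c ≠ 0 := by
    rintro rfl
    rw [zero_smul] at hg
    have h1 := g.isUnit
    rw [hg] at h1
    exact not_isUnit_zero h1
  obtain ⟨k, rfl⟩ := eq_pow_of_ne_zero hF H hc
  have h1 : g = ((s ^ k : threeJ3 F ω) : GL F9 F) := by
    apply Units.ext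
    rw [hg]
    have h2 : mat ω (s ^ k) = ω ^ k • 1 := by rw [map_pow, hs, smul_pow, one_pow]
    exact h2.symm
  rw [h1]
  exact (s ^ k).2

end J

end Cfsg.Agent.H571.JUnit
end

-- part: H571/JGU
section
/-!
# The standard unitary group by matrices; diagonal matrices (helper571)
-/

set_option autoImplicit false

namespace Cfsg.Agent.H571.JUnit

open Cfsg Matrix

section

variable {n : ℕ} {F : Type*} [Field F]

theorem form_eq {q : ℕ} {σ : F ≃+* F} (hσ : ∀ x, σ x = x ^ q) (u v : Fin n → F) :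
    hermForm n F q u v = u ⬝ᵥ (fun i => σ (v i)) := by
  unfold hermForm dotProduct
  exact Finset.sum_congr rfl fun i _ => by simp only [hσ]

theorem comp_mulVec (σ : F ≃+* F) (M : Matrix (Fin n) (Fin n) F) (v : Fin n → F) :
    (fun i => σ ((M *ᵥ v) i)) = (M.map σ) *ᵥ (fun i => σ (v i)) := by
  funext i
  change σ (∑ j, M i j * v j) = ∑ j, σ (M i j) * σ (v j)
  rw [map_sum]
  exact Finset.sum_congr rfl fun j _ => map_mul σ _ _

theorem form_mulVec {q : ℕ} {σ : F ≃+* F} (hσ : ∀ x, σ x = x ^ q) (M : Matrix (Fin n) (Fin n) F)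
    (u v : Fin n → F) :
    hermForm n F q (M *ᵥ u) (M *ᵥ v) = u ⬝ᵥ ((Mᵀ * M.map σ) *ᵥ (fun i => σ (v i))) := by
  rw [form_eq hσ, comp_mulVec, ← Matrix.mulVec_mulVec, Matrix.dotProduct_mulVec u, Matrix.vecMul_transpose]

/-- `GU` by matrices. -/
theorem mem_GU_iff {q : ℕ} {σ : F ≃+* F} (hσ : ∀ x, σ x = x ^ q) {g : GL (Fin n) F} :
    g ∈ Cfsg.GU n F q ↔ g ∈ UU (Fin n) σ := by
  rw [mem_UU]
  constructor
  · intro h
    have h0 : ∀ u v, hermForm n F q ((g : Matrix (Fin n) (Fin n) F) *ᵥ u)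
        ((g : Matrix (Fin n) (Fin n) F) *ᵥ v) = hermForm n F q u v := h
    ext i k
    have h1 := h0 (Pi.single i 1) (Pi.single k 1)
    rw [form_mulVec hσ, form_eq hσ] at h1
    have h2 : (fun l => σ ((Pi.single k 1 : Fin n → F) l)) = Pi.single k 1 := by
      funext l
      by_cases hl : l = k
      · subst hl; simp
      · simp [Pi.single_eq_of_ne hl]
    rw [h2] at h1
    rw [single_dotProduct, one_mul, single_dotProduct, one_mul, Matrix.mulVec_single_one] at h1
    rw [Matrix.col_apply] at h1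
    rw [h1, Matrix.one_apply, Pi.single_apply]
  · intro h u v
    change hermForm n F q ((g : Matrix (Fin n) (Fin n) F) *ᵥ u)
        ((g : Matrix (Fin n) (Fin n) F) *ᵥ v) = hermForm n F q u v
    rw [form_mulVec hσ, form_eq hσ, h, Matrix.one_mulVec]

end

section diag

variable {F : Type*} [Field F]

/-- the diagonal entries: a tuple of length 8 completed to product 1 -/
def ent (d : Fin 8 → Fˣ) : Fin 9 → Fˣ := Fin.cons (∏ i, d i)⁻¹ d

theorem ent_mul (d e : Fin 8 → Fˣ) : ent (d * e) = ent d * ent e := by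
  unfold ent
  funext i
  refine Fin.cases ?_ (fun j => ?_) i
  · simp only [Fin.cons_zero, Pi.mul_apply, Finset.prod_mul_distrib, mul_inv]
  · simp only [Fin.cons_succ, Pi.mul_apply]

theorem ent_prod (d : Fin 8 → Fˣ) : ∏ i, ent d i = 1 := by
  unfold ent
  rw [Fin.prod_univ_succ]
  simp

/-- diagonal matrices of determinant one -/
def dia : (Fin 8 → Fˣ) →* GL (Fin 9) F where
  toFun d := ⟨Matrix.diagonal (fun i => (ent d i : F)), Matrix.diagonal (fun i => ((ent d i)⁻¹ : Fˣ)), by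
    rw [Matrix.diagonal_mul_diagonal, ← Matrix.diagonal_one]
    congr 1
    funext i
    rw [← Units.val_mul, mul_inv_cancel, Units.val_one], by
    rw [Matrix.diagonal_mul_diagonal, ← Matrix.diagonal_one]
    congr 1
    funext i
    rw [← Units.val_mul, inv_mul_cancel, Units.val_one]⟩
  map_one' := by
    apply Units.ext
    change Matrix.diagonal _ = 1
    rw [← Matrix.diagonal_one]
    congr 1
    funext i
    refine Fin.cases ?_ (fun j => ?_) i
    · simp [ent]
    · simp [ent]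
  map_mul' d e := by
    apply Units.ext
    change Matrix.diagonal _ = Matrix.diagonal _ * Matrix.diagonal _
    rw [Matrix.diagonal_mul_diagonal, ent_mul]
    rfl

theorem dia_coe (d : Fin 8 → Fˣ) : (dia d : Matrix (Fin 9) (Fin 9) F) =
    Matrix.diagonal (fun i => (ent d i : F)) := rfl

theorem dia_injective : Function.Injective (dia : (Fin 8 → Fˣ) →* GL (Fin 9) F) := by
  intro d e h
  have h1 : (dia d : Matrix (Fin 9) (Fin 9) F) = dia e := by rw [h]
  rw [dia_coe, dia_coe] at h1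
  have h2 := Matrix.diagonal_injective h1
  funext i
  have h3 := congrFun h2 i.succ
  apply Units.ext
  simpa [ent] using h3

theorem dia_det (d : Fin 8 → Fˣ) : Matrix.GeneralLinearGroup.det (dia d) = 1 := by
  apply Units.ext
  rw [Matrix.GeneralLinearGroup.val_det_apply, Units.val_one, dia_coe, Matrix.det_diagonal]
  rw [← Units.coe_prod, ent_prod, Units.val_one]

theorem pow_three [Fintype F] (hF : Fintype.card F = 4) {x : F} (hx : x ≠ 0) : x ^ 3 = 1 := by
  have h3 : x ^ (Fintype.card F - 1) = 1 := FiniteField.pow_card_sub_one_eq_one _ hx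
  rwa [hF] at h3

theorem dia_mem [Fintype F] (hF : Fintype.card F = 4) {σ : F ≃+* F} (hσ : ∀ x, σ x = x ^ 2)
    (d : Fin 8 → Fˣ) : dia d ∈ UU (Fin 9) σ := by
  rw [mem_UU, dia_coe, Matrix.diagonal_transpose, Matrix.diagonal_map (map_zero σ),
    Matrix.diagonal_mul_diagonal, ← Matrix.diagonal_one]
  congr 1
  funext i
  change (ent d i : F) * σ (ent d i : F) = 1
  rw [hσ, ← pow_succ', pow_three hF (ent d i).ne_zero]

theorem card_dia [Fintype F] (hF : Fintype.card F = 4) :
    Nat.card (dia : (Fin 8 → Fˣ) →* GL (Fin 9) F).range = 6561 := by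
  have h1 : Nat.card (dia : (Fin 8 → Fˣ) →* GL (Fin 9) F).range = Nat.card (Fin 8 → Fˣ) :=
    (Nat.card_congr (MonoidHom.ofInjective dia_injective).toEquiv).symm
  rw [h1, Nat.card_fun, Nat.card_units, Nat.card_eq_fintype_card, Nat.card_eq_fintype_card,
    Fintype.card_fin, hF]
  norm_num

end diag

end Cfsg.Agent.H571.JUnit
end

private theorem dce_cda841646a5a : _root_.True := by
  try have : _root_.True := by simp only [_root_.Cfsg.Agent.H571.JUnit.ent.eq_1]
  exact _root_.True.intro
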